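import Mathlib.CategoryTheory.Subobject.Limits
import Mathlib.CategoryTheory.Subobject.Lattice
import Mathlib.CategoryTheory.Abelian.Basic

/-!
# Images of composites
-/

set_option autoImplicit false

universe v u

open CategoryTheory CategoryTheory.Limits

namespace Groth.Agent.FilStrict8

variable {A : Type u} [Category.{v} A] [Abelian A]

theorem image_epi_comp {X Y Z : A} (e : X ⟶ Y) [Epi e] (h : Y ⟶ Z) :
    imageSubobject (e ≫ h) = imageSubobject h := by
  haveI : Epi (image.preComp e h) := image.preComp_epi_of_epi e h
  haveI : IsIso (image.preComp e h) := isIso_of_mono_of_epi _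
  exact le_antisymm (imageSubobject_comp_le e h)
    (Subobject.mk_le_mk_of_comm (inv (image.preComp e h)) (by simp))

/-- The image of a composite only depends on the image of the first map. -/
theorem image_comp {X Y Z : A} (a : X ⟶ Y) (g : Y ⟶ Z) :
    imageSubobject (a ≫ g) = imageSubobject ((imageSubobject a).arrow ≫ g) := by
  conv_lhs => rw [← imageSubobject_arrow_comp a, Category.assoc]
  exact image_epi_comp _ _

theorem map_eq {Y Z : A} (g : Y ⟶ Z) [Mono g] (S : Subobject Y) :
    (Subobject.map g).obj S = imageSubobject (S.arrow ≫ g) := by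
  rw [imageSubobject_mono, ← Subobject.map_mk, Subobject.mk_arrow]

theorem image_comp_mono {X Y Z : A} (a : X ⟶ Y) (g : Y ⟶ Z) [Mono g] :
    imageSubobject (a ≫ g) = (Subobject.map g).obj (imageSubobject a) := by
  rw [image_comp, map_eq]

theorem image_comp_le {X Y Z : A} (a : X ⟶ Y) (g : Y ⟶ Z) : imageSubobject (a ≫ g) ≤ imageSubobject g :=
  imageSubobject_comp_le a g

theorem image_eq_top_of_epi {X Y : A} (f : X ⟶ Y) [Epi f] : imageSubobject f = ⊤ := by
  rw [← Category.comp_id f, image_epi_comp, imageSubobject_mono]
  rfl

end Groth.Agent.FilStrict8
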