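import Groth.Prelude.Def_SpSeq
import Groth.Agent.Lib.FilStrict8.Basic
import Mathlib

/-!
# Pushouts and pullbacks of filtered objects, and strictness
-/

set_option autoImplicit false
set_option backward.isDefEq.respectTransparency false
set_option backward.isDefEq.respectTransparency.types false

universe v u

open CategoryTheory CategoryTheory.Limits

namespace Groth.Agent.FilStrict8

variable {A : Type u} [Category.{v} A] [Abelian A]

theorem le_iff_factors {X : A} (S T : Subobject X) : S ≤ T ↔ T.Factors S.arrow :=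
  ⟨fun h => Subobject.factors_of_le _ h S.factors_self,
    fun h => Subobject.le_of_comm (T.factorThru _ h) (T.factorThru_arrow _ h)⟩

theorem factors_of_epi_comp {X T T' : A} (S : Subobject X) (e : T' ⟶ T) [Epi e] (a : T ⟶ X)
    (h : S.Factors (e ≫ a)) : S.Factors a := by
  have h0 : a ≫ cokernel.π S.arrow = 0 := by
    rw [← cancel_epi e, comp_zero, ← Category.assoc, ← S.factorThru_arrow _ h, Category.assoc,
      cokernel.condition, comp_zero]
  exact (Subobject.factors_iff _ _).mpr ⟨Abelian.monoLift S.arrow a h0, Abelian.monoLift_comp S.arrow a h0⟩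

theorem factors_image_comp {X Y T : A} (f : X ⟶ Y) (m : T ⟶ X) : (imageSubobject f).Factors (m ≫ f) :=
  Subobject.factors_of_factors_right m (imageSubobject_factors_comp_self f (𝟙 X) |> fun h => by simpa using h)

theorem lift_of_factors_image {X Y T : A} (f : X ⟶ Y) (a : T ⟶ Y) (h : (imageSubobject f).Factors a) :
    ∃ (T' : A) (e : T' ⟶ T) (_ : Epi e) (m : T' ⟶ X), m ≫ f = e ≫ a := by
  refine ⟨_, pullback.fst ((imageSubobject f).factorThru _ h) (factorThruImageSubobject f), inferInstance,
    pullback.snd _ _, ?_⟩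
  have := pullback.condition (f := (imageSubobject f).factorThru _ h) (g := factorThruImageSubobject f)
  calc pullback.snd _ _ ≫ f = pullback.snd _ _ ≫ factorThruImageSubobject f ≫ (imageSubobject f).arrow := by
        rw [imageSubobject_arrow_comp]
    _ = _ := by rw [← reassoc_of% this, Subobject.factorThru_arrow]

variable {K L : SpSeq.FilObj A}

theorem compat_factors (f : K ⟶ L) (p : ℤ) {T : A} (k : T ⟶ K.step p) :
    (L.fil p).Factors (k ≫ (K.fil p).arrow ≫ f.hom) := by
  rw [← Category.assoc, ← pullback_factors_iff f.hom]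
  exact Subobject.factors_of_le _ (f.compat p) (Subobject.factors_comp_arrow _)

theorem compat_of_factors (h : K.obj ⟶ L.obj) (p : ℤ) (hp : (L.fil p).Factors ((K.fil p).arrow ≫ h)) :
    K.fil p ≤ (Subobject.pullback h).obj (L.fil p) :=
  (le_iff_factors _ _).mpr ((pullback_factors_iff h _ _).mpr hp)

/-- Strictness, in elements up to refinement. -/
theorem isStrict_iff (f : K ⟶ L) :
    SpSeq.FilObj.IsStrict f ↔ ∀ (p : ℤ) (T : A) (m : T ⟶ K.obj), (L.fil p).Factors (m ≫ f.hom) →
      ∃ (T' : A) (e : T' ⟶ T) (_ : Epi e) (k : T' ⟶ K.step p),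
        k ≫ (K.fil p).arrow ≫ f.hom = e ≫ m ≫ f.hom := by
  constructor
  · intro hf p T m hm
    refine lift_of_factors_image _ _ ?_
    rw [hf p, Subobject.inf_factors]
    exact ⟨factors_image_comp _ _, hm⟩
  · intro hf p
    refine le_antisymm (le_inf (image_comp_le _ _) ?_) ((le_iff_factors _ _).mpr ?_)
    · have := compat_factors f p (𝟙 (K.step p))
      rw [Category.id_comp] at this
      exact imageSubobject_le _ ((L.fil p).factorThru _ this) ((L.fil p).factorThru_arrow _ this)
    · obtain ⟨T0, e0, _, m, hm⟩ := lift_of_factors_image f.hom (imageSubobject f.hom ⊓ L.fil p).arrow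
        (Subobject.factors_left_of_inf_factors (Subobject.factors_self _))
      obtain ⟨T1, e1, _, k, hk⟩ := hf p T0 m (by
        rw [hm]
        exact Subobject.factors_of_factors_right e0
          (Subobject.factors_right_of_inf_factors (Subobject.factors_self _)))
      refine factors_of_epi_comp _ (e1 ≫ e0) _ ?_
      rw [Category.assoc, ← hm, ← hk]
      exact factors_image_comp _ _

theorem isStrict_of_comp_iso {M : SpSeq.FilObj A} (f : K ⟶ L) (e : L ≅ M) (hf : SpSeq.FilObj.IsStrict (f ≫ e.hom)) :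
    SpSeq.FilObj.IsStrict f := by
  haveI : IsIso e.hom.hom := (SpSeq.FilObj.forget.mapIso e).isIso_hom
  rw [isStrict_iff] at hf ⊢
  intro p T m hm
  obtain ⟨T', q, hq, k, hk⟩ := hf p T m (by
    change (M.fil p).Factors (m ≫ f.hom ≫ e.hom.hom)
    rw [← Category.assoc, ← (L.fil p).factorThru_arrow _ hm, Category.assoc]
    exact compat_factors e.hom p _)
  refine ⟨T', q, hq, k, ?_⟩
  change k ≫ (K.fil p).arrow ≫ f.hom ≫ e.hom.hom = q ≫ m ≫ f.hom ≫ e.hom.hom at hk
  rw [← cancel_mono e.hom.hom]
  simpa only [Category.assoc] using hk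

theorem isStrict_of_iso_comp {M : SpSeq.FilObj A} (e : M ≅ K) (f : K ⟶ L) (hf : SpSeq.FilObj.IsStrict f) :
    SpSeq.FilObj.IsStrict (e.hom ≫ f) := by
  rw [isStrict_iff] at hf ⊢
  intro p T m hm
  obtain ⟨T', q, hq, k, hk⟩ := hf p T (m ≫ e.hom.hom) (by
    change (L.fil p).Factors (m ≫ e.hom.hom ≫ f.hom) at hm
    simpa only [Category.assoc] using hm)
  have h1 := compat_factors e.inv p k
  refine ⟨T', q, hq, (M.fil p).factorThru _ h1, ?_⟩
  change (M.fil p).factorThru _ h1 ≫ (M.fil p).arrow ≫ e.hom.hom ≫ f.hom = q ≫ m ≫ e.hom.hom ≫ f.hom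
  rw [Subobject.factorThru_arrow_assoc]
  have : e.inv.hom ≫ e.hom.hom = 𝟙 _ := congrArg SpSeq.FilObj.Hom.hom e.inv_hom_id
  simp only [Category.assoc, reassoc_of% this]
  simpa only [Category.assoc] using hk

section Pushout

variable {M : SpSeq.FilObj A} (f : K ⟶ L) (g : K ⟶ M)

/-- The filtration on the pushout. -/
noncomputable def poDesc (p : ℤ) : L.step p ⊞ M.step p ⟶ pushout f.hom g.hom :=
  biprod.desc ((L.fil p).arrow ≫ pushout.inl f.hom g.hom) ((M.fil p).arrow ≫ pushout.inr f.hom g.hom)

/-- The pushout of filtered objects. -/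
noncomputable def poObj : SpSeq.FilObj A where
  obj := pushout f.hom g.hom
  fil p := imageSubobject (poDesc f g p)
  anti p q h := by
    refine imageSubobject_le _ (biprod.map (L.stepLE h) (M.stepLE h) ≫ factorThruImageSubobject (poDesc f g p)) ?_
    rw [Category.assoc, imageSubobject_arrow_comp]
    ext <;> simp [poDesc, SpSeq.FilObj.stepLE]

/-- The first coprojection. -/
noncomputable def poInl : L ⟶ poObj f g :=
  ⟨pushout.inl f.hom g.hom, fun p => compat_of_factors (L := poObj f g) _ p (by
    rw [show (L.fil p).arrow ≫ pushout.inl f.hom g.hom = biprod.inl ≫ poDesc f g p from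
      (biprod.inl_desc _ _).symm]
    exact factors_image_comp _ _)⟩

/-- The second coprojection. -/
noncomputable def poInr : M ⟶ poObj f g :=
  ⟨pushout.inr f.hom g.hom, fun p => compat_of_factors (L := poObj f g) _ p (by
    rw [show (M.fil p).arrow ≫ pushout.inr f.hom g.hom = biprod.inr ≫ poDesc f g p from
      (biprod.inr_desc _ _).symm]
    exact factors_image_comp _ _)⟩

theorem po_w : f ≫ poInl f g = g ≫ poInr f g := SpSeq.FilObj.Hom.ext pushout.condition

theorem isPushout_po : IsPushout f g (poInl f g) (poInr f g) := by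
  refine ⟨⟨po_w f g⟩, ⟨PushoutCocone.isColimitAux' _ fun s => ⟨⟨pushout.desc s.inl.hom s.inr.hom
    (congrArg SpSeq.FilObj.Hom.hom s.condition), fun p => ?_⟩, ?_, ?_, ?_⟩⟩⟩
  · change imageSubobject (poDesc f g p) ≤ _
    have h1 := compat_factors s.inl p (𝟙 (L.step p))
    have h2 := compat_factors s.inr p (𝟙 (M.step p))
    have h3 : (s.pt.fil p).Factors (poDesc f g p ≫ pushout.desc s.inl.hom s.inr.hom
        (congrArg SpSeq.FilObj.Hom.hom s.condition)) := by
      refine (Subobject.factors_iff _ _).mpr ⟨biprod.desc ((s.pt.fil p).factorThru _ h1) ((s.pt.fil p).factorThru _ h2), ?_⟩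
      change biprod.desc _ _ ≫ (s.pt.fil p).arrow = _
      ext <;> simp [poDesc]
    have h4 := pullback_factors _ _ _ h3
    exact imageSubobject_le _ _ (Subobject.factorThru_arrow _ _ h4)
  · exact SpSeq.FilObj.Hom.ext (pushout.inl_desc _ _ _)
  · exact SpSeq.FilObj.Hom.ext (pushout.inr_desc _ _ _)
  · intro m h1 h2
    refine SpSeq.FilObj.Hom.ext (pushout.hom_ext ?_ ?_)
    · rw [pushout.inl_desc]; exact congrArg SpSeq.FilObj.Hom.hom h1
    · rw [pushout.inr_desc]; exact congrArg SpSeq.FilObj.Hom.hom h2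

theorem isStrict_poInr (hf : SpSeq.FilObj.IsStrict f) : SpSeq.FilObj.IsStrict (poInr f g) := by
  rw [isStrict_iff] at hf ⊢
  intro p T m hm
  obtain ⟨T1, e1, _, u, hu⟩ := lift_of_factors_image (poDesc f g p) _ hm
  have hex := (IsPushout.of_hasPushout f.hom g.hom).exact_shortComplex
  rw [ShortComplex.exact_iff_exact_up_to_refinements] at hex
  obtain ⟨T2, e2, _, k, hk⟩ := hex (biprod.lift (u ≫ biprod.fst ≫ (L.fil p).arrow)
      (u ≫ biprod.snd ≫ (M.fil p).arrow - e1 ≫ m)) (by
    dsimp [CommSq.shortComplex]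
    rw [biprod.lift_desc, Preadditive.sub_comp, Category.assoc, Category.assoc, Category.assoc, Category.assoc,
      Category.assoc]
    have : u ≫ biprod.fst ≫ (L.fil p).arrow ≫ pushout.inl f.hom g.hom +
        u ≫ biprod.snd ≫ (M.fil p).arrow ≫ pushout.inr f.hom g.hom = u ≫ poDesc f g p := by
      rw [← Preadditive.comp_add, poDesc, biprod.desc_eq]
    rw [← add_sub_assoc, this, hu, sub_eq_zero]
    rfl)
  dsimp [CommSq.shortComplex] at hk
  have hk1 := hk =≫ biprod.fst
  have hk2 := hk =≫ biprod.snd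
  simp only [Category.assoc, biprod.lift_fst, biprod.lift_snd] at hk1 hk2
  obtain ⟨T3, e3, _, k', hk'⟩ := hf p T2 k (by
    rw [← hk1]
    exact Subobject.factors_of_factors_right _ (Subobject.factors_of_factors_right _
      (Subobject.factors_of_factors_right _ (Subobject.factors_self _))))
  have h1 := compat_factors g p k'
  refine ⟨T3, e3 ≫ e2 ≫ e1, inferInstance,
    (M.fil p).factorThru _ h1 + e3 ≫ e2 ≫ u ≫ biprod.snd, ?_⟩
  change _ ≫ (M.fil p).arrow ≫ pushout.inr f.hom g.hom = (e3 ≫ e2 ≫ e1) ≫ m ≫ pushout.inr f.hom g.hom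
  rw [Preadditive.add_comp, Subobject.factorThru_arrow_assoc]
  simp only [Category.assoc]
  rw [← pushout.condition, reassoc_of% hk', ← reassoc_of% hk1]
  have hu2 : u ≫ biprod.fst ≫ (L.fil p).arrow ≫ pushout.inl f.hom g.hom +
      u ≫ biprod.snd ≫ (M.fil p).arrow ≫ pushout.inr f.hom g.hom = e1 ≫ m ≫ pushout.inr f.hom g.hom := by
    rw [← Preadditive.comp_add]
    exact (congrArg (u ≫ ·) biprod.desc_eq.symm).trans hu
  rw [← hu2]
  simp only [Preadditive.comp_add]

end Pushout

section Pullback

variable {M : SpSeq.FilObj A} (f : L ⟶ K) (g : M ⟶ K)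

/-- The pullback of filtered objects. -/
noncomputable def pbObj : SpSeq.FilObj A where
  obj := pullback f.hom g.hom
  fil p := (Subobject.pullback (pullback.fst f.hom g.hom)).obj (L.fil p) ⊓
    (Subobject.pullback (pullback.snd f.hom g.hom)).obj (M.fil p)
  anti p q h := inf_le_inf ((Subobject.pullback _).monotone (L.anti h)) ((Subobject.pullback _).monotone (M.anti h))

/-- The first projection. -/
noncomputable def pbFst : pbObj f g ⟶ L := ⟨pullback.fst f.hom g.hom, fun _ => inf_le_left⟩

/-- The second projection. -/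
noncomputable def pbSnd : pbObj f g ⟶ M := ⟨pullback.snd f.hom g.hom, fun _ => inf_le_right⟩

theorem pb_w : pbFst f g ≫ f = pbSnd f g ≫ g := SpSeq.FilObj.Hom.ext pullback.condition

theorem isPullback_pb : IsPullback (pbFst f g) (pbSnd f g) f g := by
  refine ⟨⟨pb_w f g⟩, ⟨PullbackCone.isLimitAux' _ fun s => ⟨⟨pullback.lift s.fst.hom s.snd.hom
    (congrArg SpSeq.FilObj.Hom.hom s.condition), fun p => compat_of_factors (L := pbObj f g) _ p ?_⟩, ?_, ?_, ?_⟩⟩⟩
  · refine (Subobject.inf_factors _).mpr ⟨pullback_factors _ _ _ ?_, pullback_factors _ _ _ ?_⟩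
    · have := compat_factors s.fst p (𝟙 (s.pt.step p))
      simpa [pbObj] using this
    · have := compat_factors s.snd p (𝟙 (s.pt.step p))
      simpa [pbObj] using this
  · exact SpSeq.FilObj.Hom.ext (pullback.lift_fst _ _ _)
  · exact SpSeq.FilObj.Hom.ext (pullback.lift_snd _ _ _)
  · intro m h1 h2
    refine SpSeq.FilObj.Hom.ext (pullback.hom_ext ?_ ?_)
    · rw [pullback.lift_fst]; exact congrArg SpSeq.FilObj.Hom.hom h1
    · rw [pullback.lift_snd]; exact congrArg SpSeq.FilObj.Hom.hom h2

theorem isStrict_pbSnd (hf : SpSeq.FilObj.IsStrict f) : SpSeq.FilObj.IsStrict (pbSnd f g) := by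
  rw [isStrict_iff] at hf ⊢
  intro p T m hm
  change (M.fil p).Factors (m ≫ pullback.snd f.hom g.hom) at hm
  obtain ⟨T', e, he, y, hy⟩ := hf p T (m ≫ pullback.fst f.hom g.hom) (by
    rw [Category.assoc, pullback.condition, ← Category.assoc, ← (M.fil p).factorThru_arrow _ hm, Category.assoc]
    exact compat_factors g p _)
  let m' : T' ⟶ pullback f.hom g.hom := pullback.lift (y ≫ (L.fil p).arrow) (e ≫ m ≫ pullback.snd _ _) (by
    simp only [Category.assoc]
    rw [hy, Category.assoc, pullback.condition])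
  have h : ((pbObj f g).fil p).Factors m' := (Subobject.inf_factors _).mpr
    ⟨pullback_factors _ _ _ (by simp only [m', pullback.lift_fst]; exact Subobject.factors_comp_arrow _),
     pullback_factors _ _ _ (by
      simp only [m', pullback.lift_snd]; exact Subobject.factors_of_factors_right e hm)⟩
  refine ⟨T', e, he, ((pbObj f g).fil p).factorThru _ h, ?_⟩
  change _ ≫ _ ≫ pullback.snd f.hom g.hom = e ≫ m ≫ pullback.snd f.hom g.hom
  rw [← Category.assoc, Subobject.factorThru_arrow]
  exact pullback.lift_snd _ _ _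

end Pullback

end Groth.Agent.FilStrict8
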